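import Groth.Agent.HypX.NotHyper
import Groth.Agent.HypX.Smooth
import Groth.Agent.CurveBC.Geometry
import Groth.Agent.ProjX.Chart
import Groth.Agent.CurveLuroth.FF
import Groth.Agent.HyperP1.LineMap
import Groth.Agent.S10829
import Groth.Agent.GrpSchLib.GeomIrr
import Groth.Prelude.Def_ModFun

/-!
# The diagonal conic `a x² + b z² = y²` and curves with its function field
-/

set_option autoImplicit false
set_option linter.style.haveILetI false
set_option linter.unusedSectionVars false
set_option backward.isDefEq.respectTransparency false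
set_option backward.isDefEq.respectTransparency.types false
set_option maxHeartbeats 1000000

universe u

open CategoryTheory CategoryTheory.Limits AlgebraicGeometry TopologicalSpace
open Groth.Agent.ZetaLib
open HomogeneousLocalization (Away)

noncomputable section

namespace Groth.Agent.EssP1

variable {K : Type u} [Field K] (a b : K)

/-- The polynomial `a x² + b z² − y²`. -/
def conicPoly : MvPolynomial (Fin (2 + 1)) K :=
  MvPolynomial.C a * MvPolynomial.X 0 ^ 2 + MvPolynomial.C b * MvPolynomial.X 2 ^ 2 - MvPolynomial.X 1 ^ 2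

theorem conicPoly_mem : conicPoly a b ∈ CohB1.polyGrading 2 K 2 := by
  rw [CohB1.polyGrading, MvPolynomial.mem_homogeneousSubmodule, conicPoly]
  exact (((MvPolynomial.isHomogeneous_X_pow _ 2).C_mul _).add ((MvPolynomial.isHomogeneous_X_pow _ 2).C_mul _)).sub
    (MvPolynomial.isHomogeneous_X_pow _ 2)

/-- The form of the conic. -/
def conicForm : LefPen.Form 2 K 2 := ⟨conicPoly a b, conicPoly_mem a b⟩

theorem conicForm_ne_zero : conicForm a b ≠ 0 := fun h => by
  have := congrArg (fun F : LefPen.Form 2 K 2 => MvPolynomial.eval (![0, 1, 0] : Fin (2 + 1) → K) F.1) h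
  simp [conicForm, conicPoly] at this

/-- The conic. -/
abbrev conic : Scheme.{u} := (LefPen.hypIdeal (conicForm a b)).subscheme

/-- Its structure morphism. -/
abbrev conicStr : conic a b ⟶ Spec (CommRingCat.of K) :=
  (LefPen.hypIdeal (conicForm a b)).subschemeι ≫ CohB1.ProjSpace.toSpec 2 K

theorem smooth_conic (ha : a ≠ 0) (hb : b ≠ 0) (h2 : (2 : K) ≠ 0) : Smooth (conicStr a b) := by
  refine (HypX.smooth_iff_no_singular_point _ (conicForm_ne_zero a b)).2 fun c v hv h0 => ?_
  let i := algebraMap K (AlgebraicClosure K)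
  have hi : ∀ x : K, i x = 0 → x = 0 := fun x h => i.injective (h.trans (map_zero i).symm)
  have h2' : (2 : AlgebraicClosure K) ≠ 0 := by
    rw [← map_ofNat i 2]; exact fun h => h2 (hi _ h)
  have h0' : i a * v 0 ^ 2 + i b * v 2 ^ 2 - v 1 ^ 2 = 0 := by
    simpa [conicForm, conicPoly] using h0
  by_contra! hall
  have hd : ∀ j, MvPolynomial.aeval v (MvPolynomial.pderiv j (conicPoly a b)) =
      ![2 * i a * v 0, -(2 * v 1), 2 * i b * v 2] j := by
    intro j
    fin_cases j <;> simp [conicPoly, MvPolynomial.pderiv_X, Pi.single_apply, i] <;> ring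
  have hz : ∀ j, j ≠ c → v j = 0 := by
    intro j hj
    have h := (hd j).symm.trans (hall j hj)
    fin_cases j
    · simpa [i, ha, h2'] using h
    · simpa [h2'] using h
    · simpa [i, hb, h2'] using h
  fin_cases c
  · have hv' : v 0 = 1 := hv
    rw [hz 1 (by decide), hz 2 (by decide), hv'] at h0'
    exact ha (hi a (by simpa using h0'))
  · have hv' : v 1 = 1 := hv
    rw [hz 0 (by decide), hz 2 (by decide), hv'] at h0'
    simp at h0'
  · have hv' : v 2 = 1 := hv
    rw [hz 0 (by decide), hz 1 (by decide), hv'] at h0'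
    exact hb (hi b (by simpa using h0'))

theorem conic_facts :
    letI : (conic a b).Over (Spec (CommRingCat.of K)) := ⟨conicStr a b⟩
    IsProper (conicStr a b) ∧
      Module.finrank K (Coh.HH (conic a b) (Coh.structureModule (conic a b)) 0) = 1 ∧
      Curv2.genus K (conic a b) = 0 := by
  letI : (conic a b).Over (Spec (CommRingCat.of K)) := ⟨conicStr a b⟩
  obtain ⟨h0, -, h1⟩ := HypX.plane_curve (conicForm a b) (by norm_num) (conicForm_ne_zero a b) rfl
  exact ⟨HypX.isProper_plane (conicForm a b) rfl, h0, by simpa [Curv2.genus] using h1⟩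

/-- The conic is a curve of genus zero once it is a curve. -/
theorem isCurveOfGenus_conic (ha : a ≠ 0) (hb : b ≠ 0) (h2 : (2 : K) ≠ 0)
    (hdim : topologicalKrullDim (conic a b) = 1) : ModFun.IsCurveOfGenus 0 (conicStr a b) := by
  letI : (conic a b).Over (Spec (CommRingCat.of K)) := ⟨conicStr a b⟩
  obtain ⟨hp, h0, hg⟩ := conic_facts a b
  haveI : IsProper ((conic a b) ↘ Spec (CommRingCat.of K)) := hp
  haveI : Smooth ((conic a b) ↘ Spec (CommRingCat.of K)) := smooth_conic a b ha hb h2
  refine ⟨smooth_conic a b ha hb h2, hp, ⟨?_⟩, ?_⟩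
  · intro M _ y W fst snd h
    obtain ⟨g, rfl⟩ := Spec.map_surjective y
    letI : Algebra K M := g.hom.toAlgebra
    letI : W.Over (Spec (CommRingCat.of M)) := ⟨snd⟩
    haveI := CurveBC.isIntegral K M fst h h0
    infer_instance
  · intro Ω _ _ t W fst snd h
    obtain ⟨g, rfl⟩ := Spec.map_surjective t
    letI : Algebra K Ω := g.hom.toAlgebra
    letI : W.Over (Spec (CommRingCat.of Ω)) := ⟨snd⟩
    have hpb : IsPullback fst (W ↘ Spec (CommRingCat.of Ω)) ((conic a b) ↘ Spec (CommRingCat.of K))
        (Spec.map (CommRingCat.ofHom (algebraMap K Ω))) := h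
    refine ⟨CurveBC.topologicalKrullDim_eq K Ω fst hpb hdim, ?_⟩
    haveI := quasiSeparatedSpace_of_quasiSeparated ((conic a b) ↘ Spec (CommRingCat.of K))
    haveI := QuasiCompact.compactSpace_of_compactSpace ((conic a b) ↘ Spec (CommRingCat.of K))
    exact (CurveBC.genus_eq K Ω fst hpb).trans hg

/-- A proper closed irreducible subspace of a space of dimension at most two has dimension at most one. -/
theorem topologicalKrullDim_le_one {Y X : Scheme.{u}} (i : Y ⟶ X) [IsClosedImmersion i] [IrreducibleSpace X]
    (hX : topologicalKrullDim X ≤ 2) (hi : ¬ Function.Surjective i) : topologicalKrullDim Y ≤ 1 := by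
  refine iSup_le fun l => ?_
  let m : IrreducibleCloseds Y → IrreducibleCloseds X := IrreducibleCloseds.map i i.continuous
  have hm : StrictMono m := IrreducibleCloseds.map_strictMono_of_isInducing i.isClosedEmbedding.isInducing
  let T : IrreducibleCloseds X := ⟨Set.univ, IrreducibleSpace.isIrreducible_univ X, isClosed_univ⟩
  have hT : ∀ z, m z < T := fun z => by
    refine lt_of_le_of_ne (fun _ _ => Set.mem_univ _) fun h => hi fun x => ?_
    have hx : x ∈ closure (i '' (z : Set Y)) := by
      have := congrArg (fun w : IrreducibleCloseds X => x ∈ (w : Set X)) h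
      exact (iff_of_eq this).2 (Set.mem_univ x)
    exact (closure_minimal (Set.image_subset_range _ _) i.isClosedEmbedding.isClosed_range) hx
  have h := Order.LTSeries.length_le_krullDim ((l.map m hm).snoc T (hT _))
  rw [RelSeries.snoc_length] at h
  have h' : ((l.length + 1 : ℕ) : WithBot ℕ∞) ≤ 2 := h.trans hX
  have : l.length + 1 ≤ 2 := by exact_mod_cast h'
  have h'' : ((l.length : ℕ) : WithBot ℕ∞) ≤ ((1 : ℕ) : WithBot ℕ∞) := by exact_mod_cast (by omega : l.length ≤ 1)
  exact h''

/-- A space with a nonclosed point has dimension at least one. -/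
theorem one_le_topologicalKrullDim {Y : Scheme.{u}} (y : Y) (hy : ¬ IsClosed ({y} : Set Y)) :
    1 ≤ topologicalKrullDim Y := by
  obtain ⟨w, hw, hne⟩ : ∃ w, w ∈ closure ({y} : Set Y) ∧ w ≠ y := by
    by_contra! h
    exact hy (isClosed_of_closure_subset fun w hw => h w hw)
  let A : IrreducibleCloseds Y := ⟨closure {w}, isIrreducible_singleton.closure, isClosed_closure⟩
  let B : IrreducibleCloseds Y := ⟨closure {y}, isIrreducible_singleton.closure, isClosed_closure⟩
  have hlt : A < B := by
    refine lt_of_le_of_ne (closure_minimal (Set.singleton_subset_iff.2 hw) isClosed_closure) fun e => hne ?_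
    have e' : closure ({w} : Set Y) = closure {y} := congrArg (fun z : IrreducibleCloseds Y => (z : Set Y)) e
    exact ((inseparable_iff_closure_eq).2 e').eq
  have h := Order.LTSeries.length_le_krullDim ((RelSeries.singleton _ A).snoc B hlt)
  refine le_trans (le_of_eq ?_) h
  simp

variable {L : Type u} [Field L] [Algebra K L] {C : Scheme.{u}} [C.Over (Spec (CommRingCat.of L))] [IsIntegral C]
  [IsProper (C ↘ Spec (CommRingCat.of L))] [Smooth (C ↘ Spec (CommRingCat.of L))]

attribute [local instance] ZetaCurve.ffAlg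

/-- A curve whose function field is generated by a point of the conic is its base change. -/
theorem exists_isPullback_conic (ha : a ≠ 0) (hb : b ≠ 0) (h2 : (2 : K) ≠ 0)
    (hdim : topologicalKrullDim C = 1) (s w : C.functionField) (hs : Transcendental L s)
    (hw : w * w = algebraMap L C.functionField (algebraMap K L a) * (s * s) + algebraMap L C.functionField (algebraMap K L b))
    (hgen : IntermediateField.adjoin L {s, w} = ⊤) :
    topologicalKrullDim (conic a b) = 1 ∧ ∃ top : C ⟶ conic a b,
      IsPullback top (C ↘ Spec (CommRingCat.of L)) (conicStr a b) (Spec.map (CommRingCat.ofHom (algebraMap K L))) := by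
  letI : (conic a b).Over (Spec (CommRingCat.of K)) := ⟨conicStr a b⟩
  obtain ⟨hp, h0, hg⟩ := conic_facts a b
  haveI : IsProper ((conic a b) ↘ Spec (CommRingCat.of K)) := hp
  haveI : IsProper (conicStr a b) := hp
  haveI : Smooth ((conic a b) ↘ Spec (CommRingCat.of K)) := smooth_conic a b ha hb h2
  haveI : IsIntegral (conic a b) := CurveBC.isIntegral_of_h0 K (conic a b) h0
  let F := C.functionField
  letI : Algebra K F := ((algebraMap L F).comp (algebraMap K L)).toAlgebra
  haveI : IsScalarTower K L F := IsScalarTower.of_algebraMap_eq fun _ => rfl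
  let v : Fin (2 + 1) → F := ![s, w, 1]
  let I := LefPen.hypIdeal (conicForm a b)
  let U := HypX.chartAff (n := 2) (k := K) 2
  -- the generic point of `C` lies on the conic
  let ev : CommRingCat.of (Away (CohB1.polyGrading 2 K) (MvPolynomial.X 2)) ⟶ CommRingCat.of F :=
    CommRingCat.ofHom (evalAt (k := K) 2 v rfl)
  let e2 := Proj.basicOpenIsoAway (CohB1.polyGrading 2 K) (MvPolynomial.X 2) (X_mem_one 2 K 2) Nat.one_pos
  let ψ₀ : Γ(CohB1.ProjSpace 2 K, U.1) ⟶ CommRingCat.of F := e2.inv ≫ ev
  have hψ₀ : Proj.awayToSection (CohB1.polyGrading 2 K) (MvPolynomial.X 2) ≫ ψ₀ = ev := e2.hom_inv_id_assoc ev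
  have hker : ∀ x ∈ I.ideal U, ψ₀.hom x = 0 := by
    intro x hx
    rw [HypX.hypIdeal_chart (conicForm a b) 2, Ideal.mem_span_singleton] at hx
    obtain ⟨y, rfl⟩ := hx
    rw [map_mul, HypX.dehom_eq, show ψ₀.hom ((Proj.awayToSection _ _).hom _) = ev.hom _ from congr($hψ₀ _)]
    show evalAt 2 v rfl (ZetaLib.dehom 2 K 2 (conicPoly a b)) * _ = 0
    rw [HypX.evalAt_dehom]
    have : MvPolynomial.aeval (R := K) v (conicPoly a b) = 0 := by
      simp [conicPoly, v]
      rw [IsScalarTower.algebraMap_apply K L F, IsScalarTower.algebraMap_apply K L F]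
      linear_combination -hw
    rw [this, zero_mul]
  let p : Spec (CommRingCat.of F) ⟶ conic a b :=
    Spec.map (CommRingCat.ofHom (Ideal.Quotient.lift (I.ideal U) ψ₀.hom hker)) ≫ I.subschemeCover.f U
  have hpι : p ≫ I.subschemeι = pointAt (k := K) 2 v rfl := by
    rw [Category.assoc, I.subschemeCover_map_subschemeι, Scheme.IdealSheafData.glueDataObjι_ι]
    rw [← Spec.map_comp_assoc, ← CommRingCat.ofHom_comp, Ideal.Quotient.lift_comp_mk, CommRingCat.ofHom_hom,
      HypX.fromSpec_chart, ← Spec.map_comp_assoc, hψ₀]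
    rfl
  have hpstr : p ≫ conicStr a b = Spec.map (CommRingCat.ofHom (algebraMap K F)) := by
    rw [← Category.assoc, hpι, pointAt, Category.assoc, chart_toSpec, ← Spec.map_comp, ← CommRingCat.ofHom_comp,
      evalAt_base]
  let α := Spec.map (CommRingCat.ofHom (algebraMap K L))
  let X := pullback (conicStr a b) α
  letI : X.Over (Spec (CommRingCat.of L)) := ⟨pullback.snd _ _⟩
  have hpb : IsPullback (pullback.fst (conicStr a b) α) (X ↘ Spec (CommRingCat.of L))
      ((conic a b) ↘ Spec (CommRingCat.of K)) α := IsPullback.of_hasPullback _ _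
  haveI : IsProper (X ↘ Spec (CommRingCat.of L)) := CurveBC.isProper K L _ hpb
  haveI : Smooth (X ↘ Spec (CommRingCat.of L)) := CurveBC.smooth K L _ hpb
  haveI : IsIntegral X := CurveBC.isIntegral K L _ hpb h0
  let q : Spec (CommRingCat.of F) ⟶ X := pullback.lift p (Spec.map (CommRingCat.ofHom (algebraMap L F))) (by
    rw [hpstr, ← Spec.map_comp, ← CommRingCat.ofHom_comp]; rfl)
  obtain ⟨⟨η, ψ⟩, hηψ⟩ : ∃ z : Σ x : X, X.residueField x ⟶ CommRingCat.of F,
      Spec.map z.2 ≫ X.fromSpecResidueField z.1 = q :=
    ⟨Scheme.SpecToEquivOfField F X q, (Scheme.SpecToEquivOfField F X).symm_apply_apply q⟩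
  let cL := Spec.preimage (X.fromSpecResidueField η ≫ (X ↘ Spec (CommRingCat.of L)))
  have hcψ : cL ≫ ψ = CommRingCat.ofHom (algebraMap L F) := Spec.map_injective (by
    rw [Spec.map_comp, Spec.map_preimage, ← Category.assoc, hηψ]
    exact pullback.lift_snd _ _ _)
  letI : Algebra L (X.residueField η) := cL.hom.toAlgebra
  let ψA : X.residueField η →ₐ[L] F := { ψ.hom with commutes' := fun c => congr($hcψ c) }
  -- the coordinates come from the residue field of its image
  let r := X.fromSpecResidueField η ≫ pullback.fst (conicStr a b) α ≫ I.subschemeι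
  have hr : Spec.map ψ ≫ r = pointAt (k := K) 2 v rfl := by
    rw [reassoc_of% hηψ, pullback.lift_fst_assoc, hpι]
  have hrc : Set.range r ⊆ Set.range (ZetaLib.chart 2 K 2) := by
    haveI : Subsingleton (Spec (X.residueField η)) := inferInstanceAs (Subsingleton (PrimeSpectrum (X.residueField η)))
    rintro _ ⟨z, rfl⟩
    let o : Spec (CommRingCat.of F) := IsLocalRing.closedPoint F
    rw [Subsingleton.elim z (Spec.map ψ o), ← Scheme.Hom.comp_apply, hr]
    exact ⟨_, rfl⟩
  let e := Spec.preimage (IsOpenImmersion.lift (ZetaLib.chart 2 K 2) r hrc)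
  have he : e ≫ ψ = ev := Spec.map_injective (by
    rw [← cancel_mono (ZetaLib.chart 2 K 2), Spec.map_comp, Category.assoc, Spec.map_preimage,
      IsOpenImmersion.lift_fac, hr]
    rfl)
  have hcoord : ∀ j, v j ∈ ψA.fieldRange := fun j => by
    refine ⟨e.hom (coord 2 K 2 j), ?_⟩
    exact (congr($he (coord 2 K 2 j))).trans (evalAt_coord 2 v rfl j)
  have htop : ψA.fieldRange = ⊤ := by
    refine eq_top_iff.2 (hgen.ge.trans (IntermediateField.adjoin_le_iff.2 ?_))
    rintro _ (rfl | rfl)
    · exact hcoord 0
    · exact hcoord 1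
  have hψs : Function.Surjective ψ := fun f => (htop.ge (IntermediateField.mem_top (x := f)) : f ∈ ψA.fieldRange)
  -- it is not closed
  have hnc : ¬ IsClosed ({η} : Set X) := by
    intro hc
    haveI : IsClosedImmersion (X.fromSpecResidueField η) := isClosed_singleton_iff_isClosedImmersion.1 hc
    have hft : LocallyOfFiniteType (Spec.map cL) := by
      rw [Spec.map_preimage]; infer_instance
    rw [HasRingHomProperty.Spec_iff (P := @LocallyOfFiniteType)] at hft
    haveI : Algebra.FiniteType L (X.residueField η) := hft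
    haveI : Module.Finite L (X.residueField η) := finite_of_finite_type_of_isJacobsonRing L (X.residueField η)
    obtain ⟨x, hx⟩ := hψs s
    refine hs ?_
    rw [show s = ψA x from hx.symm]
    exact (Algebra.IsAlgebraic.isAlgebraic (R := L) x).algHom ψA
  let ιL : X ⟶ CohB1.ProjSpace 2 L := (ProjX.isPullback_pmap 2 (algebraMap K L)).lift
    (pullback.fst (conicStr a b) α ≫ I.subschemeι) (pullback.snd _ _)
    (by rw [Category.assoc]; exact pullback.condition)
  have hιpb : IsPullback (pullback.fst (conicStr a b) α) ιL I.subschemeι (ProjX.pmap 2 (algebraMap K L)) := by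
    refine IsPullback.of_bot ?_ (IsPullback.lift_fst _ _ _ _).symm (ProjX.isPullback_pmap 2 (algebraMap K L))
    rw [IsPullback.lift_snd]
    exact IsPullback.of_hasPullback _ _
  haveI : IsClosedImmersion ιL := MorphismProperty.of_isPullback hιpb inferInstance
  haveI := H23.PnChart.isIntegral_projSpace 2 L
  haveI := H23.PnChart.isIntegral_projSpace 2 K
  have hns : ¬ Function.Surjective ιL := by
    intro hsur
    haveI : Surjective I.subschemeι := ⟨fun x => by
      haveI : Surjective (ProjX.pmap 2 (algebraMap K L)) :=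
        MorphismProperty.of_isPullback (ProjX.isPullback_pmap 2 (algebraMap K L)).flip
          (GrpSchLib.surjective_spec_map_field (algebraMap K L))
      obtain ⟨y, rfl⟩ := (ProjX.pmap 2 (algebraMap K L)).surjective x
      obtain ⟨z, rfl⟩ := hsur y
      exact ⟨pullback.fst (conicStr a b) α z, by
        rw [← Scheme.Hom.comp_apply, ← Scheme.Hom.comp_apply, ← hιpb.w]⟩⟩
    haveI : IsIso I.subschemeι := isIso_of_isClosedImmersion_of_surjective _
    have hbot : I = ⊥ := (AlgebraicGeometry.Scheme.isIso_subschemeι_iff_eq_bot I).1 inferInstance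
    have h00 : LefPen.dehom (conicForm a b) 1 = 0 := by
      have h := HypX.hypIdeal_chart (conicForm a b) 1
      rw [show LefPen.hypIdeal (conicForm a b) = I from rfl, hbot] at h
      simpa [eq_comm, Ideal.span_singleton_eq_bot] using h
    rw [HypX.dehom_eq] at h00
    have hz := (ConcreteCategory.bijective_of_isIso
      (Proj.basicOpenIsoAway (CohB1.polyGrading 2 K) (MvPolynomial.X 1) (X_mem_one 2 K 1) Nat.one_pos).hom).1
      (h00.trans (map_zero _).symm)
    have h3 := HypX.evalAt_dehom (k := K) (K := K) 1 (![0, 1, 0] : Fin (2 + 1) → K) rfl (conicPoly a b)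
    rw [show ZetaLib.dehom 2 K 1 (conicPoly a b) = 0 from hz, map_zero] at h3
    simp [conicPoly] at h3
  have hdimX : topologicalKrullDim X = 1 := le_antisymm
    (topologicalKrullDim_le_one ιL (le_of_eq (by simpa using S10829.result L 2)) hns) (one_le_topologicalKrullDim η hnc)
  haveI : Subsingleton (Spec (CommRingCat.of K)) := inferInstanceAs (Subsingleton (PrimeSpectrum K))
  haveI : Subsingleton (Spec (CommRingCat.of L)) := inferInstanceAs (Subsingleton (PrimeSpectrum L))
  haveI : Nonempty (Spec (CommRingCat.of L)) := inferInstanceAs (Nonempty (PrimeSpectrum L))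
  refine ⟨(FibDim.topologicalKrullDim_baseChange hpb).symm.trans hdimX, ?_⟩
  obtain rfl : η = genericPoint X := (ZetaCurve.eq_or_isClosed L X hdimX η).resolve_right hnc
  let u : X.functionField ⟶ CommRingCat.of F := X.residue (genericPoint X) ≫ ψ
  haveI : IsIso u := (ConcreteCategory.isIso_iff_bijective u).2
    ⟨u.hom.injective, hψs.comp (X.residue_surjective _)⟩
  have hu : CurveLuroth.ffC (X ↘ Spec (CommRingCat.of L)) ≫ u = CurveLuroth.ffC (C ↘ Spec (CommRingCat.of L)) := by
    apply Spec.map_injective
    rw [Spec.map_comp, CurveLuroth.spec_ffC, CurveLuroth.spec_ffC, HyperP1.fromSpecStalk_over (k := L) (X := C), Spec.map_comp,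
      Category.assoc]
    rw [show Spec.map (X.residue (genericPoint X)) ≫ X.fromSpecStalk (genericPoint X) ≫ (X ↘ Spec (CommRingCat.of L)) =
      Spec.map cL by rw [← Category.assoc, Spec.map_preimage]; rfl, ← Spec.map_comp, hcψ]
  obtain ⟨ee, hee⟩ := CurveLuroth.exists_iso_of_functionField (X ↘ Spec (CommRingCat.of L))
    (C ↘ Spec (CommRingCat.of L)) (fun z => HyperP1.valuationRing_stalk L hdimX z)
    (fun z => HyperP1.valuationRing_stalk L hdim z) (asIso u) hu
  refine ⟨ee.inv ≫ pullback.fst _ _, IsPullback.of_iso (IsPullback.of_hasPullback (conicStr a b) α) ee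
    (Iso.refl _) (Iso.refl _) (Iso.refl _) (by simp) (by rw [Iso.refl_hom, Category.comp_id]; exact hee.symm) (by simp) (by simp [α])⟩

end Groth.Agent.EssP1
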