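import Groth.Agent.HypX.NotHyper

/-!
# Function fields of genus zero in characteristic zero are function fields of diagonal conics
-/

set_option autoImplicit false
set_option linter.unusedSectionVars false

universe u

open FunFld Polynomial
open scoped IntermediateField

noncomputable section

namespace Groth.Agent.EssP1

variable {k K : Type u} [Field k] [CharZero k] [Field K] [Algebra k K]

/-- A polynomial whose square is a quadratic in `X` and itself has degree at most one. -/
theorem natDegree_le_one_of_conic (p : k[X]) {c0 c1 c2 c3 c4 : k}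
    (h : p * p = C c0 + C c1 * X + C c2 * p + C c3 * (X * X) + C c4 * (X * p)) : p.natDegree ≤ 1 := by
  by_contra! hn
  have hp : p ≠ 0 := fun h0 => by simp [h0] at hn
  have h2 : (p * p).natDegree = p.natDegree + p.natDegree := natDegree_mul hp hp
  have hle : (C c0 + C c1 * X + C c2 * p + C c3 * (X * X) + C c4 * (X * p)).natDegree ≤ p.natDegree + 1 := by
    have hXX : (X * X : k[X]).natDegree ≤ p.natDegree + 1 := (natDegree_mul_le).trans (by simp; omega)
    have hXp : (X * p : k[X]).natDegree ≤ p.natDegree + 1 := (natDegree_mul_le).trans (by simp; omega)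
    refine (natDegree_add_le_of_le (natDegree_add_le_of_le (natDegree_add_le_of_le (natDegree_add_le_of_le
      (m := p.natDegree + 1) (n := p.natDegree + 1) ?_ ?_) (n := p.natDegree + 1) ?_) (n := p.natDegree + 1) ?_)
      (n := p.natDegree + 1) ?_).trans (by simp)
    · simp
    · exact (natDegree_C_mul_le _ _).trans (by simp)
    · exact (natDegree_C_mul_le _ _).trans (by omega)
    · exact (natDegree_C_mul_le _ _).trans hXX
    · exact (natDegree_C_mul_le _ _).trans hXp
  rw [← h, h2] at hle
  omega

/-- The second coordinate of a conic is not a rational function of the first. -/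
theorem not_mem_adjoin_of_conic {x y : K} (ht : Transcendental k x) (hli : LinearIndependent k ![1, x, y])
    {c0 c1 c2 c3 c4 : k} (h : y * y = algebraMap k K c0 + algebraMap k K c1 * x + algebraMap k K c2 * y +
      algebraMap k K c3 * (x * x) + algebraMap k K c4 * (x * y)) : y ∉ k⟮x⟯ := by
  intro hy
  obtain ⟨r, q, hyr⟩ := IntermediateField.mem_adjoin_simple_iff k y |>.1 hy
  have hinj : Function.Injective (aeval (R := k) x) := transcendental_iff_injective.1 ht
  by_cases hq : q = 0
  · subst hq
    simp at hyr
    subst hyr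
    exact hli.ne_zero 2 (by simp)
  obtain ⟨r', q', d, hu', hr', hq'⟩ := UniqueFactorizationMonoid.exists_reduced_factors' r q hq
  have hu : IsCoprime r' q' := isRelPrime_iff_isCoprime.1 hu'
  replace hr' := hr'.symm
  replace hq' := hq'.symm
  have hd : d ≠ 0 := fun h0 => hq (by rw [hq', h0, zero_mul])
  have hq'0 : q' ≠ 0 := fun h0 => hq (by rw [hq', h0, mul_zero])
  have hy' : y = aeval x r' / aeval x q' := by
    rw [hyr, hr', hq', map_mul, map_mul, mul_div_mul_left]
    exact fun h0 => hd (hinj (h0.trans (map_zero _).symm))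
  have hq'x : aeval x q' ≠ 0 := fun h0 => hq'0 (hinj (h0.trans (map_zero _).symm))
  have hpoly : r' * r' = q' * (q' * (C c0 + C c1 * X + C c3 * (X * X)) + r' * (C c2 + C c4 * X)) := by
    apply hinj
    simp only [map_mul, map_add, aeval_C, aeval_X]
    rw [hy', div_mul_div_comm, div_eq_iff (mul_ne_zero hq'x hq'x)] at h
    rw [h]
    field_simp
    ring
  have hunit : IsUnit q' := by
    have hc : IsCoprime (r' * r') q' := hu.mul_left hu
    exact hc.isUnit_of_dvd' ⟨_, hpoly⟩ dvd_rfl
  obtain ⟨e, he, rfl⟩ := Polynomial.isUnit_iff.1 hunit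
  let p : k[X] := r' * C e⁻¹
  have he0 : e ≠ 0 := he.ne_zero
  have hyp : y = aeval x p := by
    rw [hy', aeval_C, map_mul, aeval_C, map_inv₀, div_eq_mul_inv]
  have hp : p * p = C c0 + C c1 * X + C c2 * p + C c3 * (X * X) + C c4 * (X * p) := by
    apply hinj
    simp only [map_mul, map_add, aeval_C, aeval_X, ← hyp]
    exact h
  obtain ⟨s, t, hst⟩ := exists_eq_X_add_C_of_natDegree_le_one (natDegree_le_one_of_conic p hp)
  have hyl : y = algebraMap k K s * x + algebraMap k K t := by rw [hyp, hst]; simp
  have := Fintype.linearIndependent_iff.1 hli ![-t, -s, 1] (by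
    simp only [Fin.sum_univ_three, Matrix.cons_val, Algebra.smul_def, map_neg, map_one]
    rw [hyl]; ring) 2
  simp at this

/-- Coordinates of a diagonal conic on a function field of genus zero. -/
theorem exists_diagonal_conic (hK : IsFunctionField k K) (hg : genus k K = 0) :
    ∃ (s w : K) (a b : k), a ≠ 0 ∧ b ≠ 0 ∧ Transcendental k s ∧
      w * w = algebraMap k K a * (s * s) + algebraMap k K b ∧ IntermediateField.adjoin k {s, w} = ⊤ := by
  obtain ⟨x, y, hli, hfr, ht, hy2⟩ := HypX.exists_conic hK hg
  obtain ⟨c, hc⟩ := (Submodule.mem_span_range_iff_exists_fun k).1 hy2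
  simp only [Fin.sum_univ_five, Matrix.cons_val, Algebra.smul_def, mul_one] at hc
  have hy := not_mem_adjoin_of_conic ht hli hc.symm
  haveI : FiniteDimensional k⟮x⟯ K := FFLib.IsFF.finite_adjoin hK.1 ht
  have htop : IntermediateField.adjoin k⟮x⟯ {y} = ⊤ := by
    refine IntermediateField.eq_of_le_of_finrank_le le_top ?_
    rw [IntermediateField.finrank_top']
    refine hfr.trans ?_
    by_contra! hlt
    have h1 : Module.finrank k⟮x⟯ (IntermediateField.adjoin k⟮x⟯ {y}) = 1 :=
      le_antisymm (by omega) Module.finrank_pos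
    rw [IntermediateField.finrank_adjoin_simple_eq_one_iff, IntermediateField.mem_bot] at h1
    obtain ⟨r, hr⟩ := h1
    exact hy (hr ▸ r.2)
  have hgen : ∀ (F : IntermediateField k K), x ∈ F → y ∈ F → F = ⊤ := by
    intro F hx' hy'
    refine eq_top_iff.2 fun m _ => ?_
    have hle : k⟮x⟯ ≤ F := IntermediateField.adjoin_simple_le_iff.2 hx'
    have hm : m ∈ IntermediateField.adjoin k⟮x⟯ {y} := htop ▸ IntermediateField.mem_top
    have : IntermediateField.adjoin k⟮x⟯ {y} ≤ IntermediateField.extendScalars hle :=
      IntermediateField.adjoin_simple_le_iff.2 hy'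
    exact this hm
  set ι := algebraMap k K
  haveI : CharZero K := charZero_of_injective_algebraMap ι.injective
  have h2 : (2 : K) ≠ 0 := by
    rw [← map_ofNat ι 2]
    exact fun h0 => two_ne_zero (α := k) (ι.injective (h0.trans (map_zero ι).symm))
  let z : K := y - (ι (c 2) + ι (c 4) * x) / 2
  let A : k := c 3 + c 4 * c 4 / 4
  let B : k := c 1 + c 2 * c 4 / 2
  let D : k := c 0 + c 2 * c 2 / 4
  have hz : z * z = ι A * (x * x) + ι B * x + ι D := by
    simp only [z, A, B, D, map_add, map_div₀, map_mul, map_ofNat]
    linear_combination -hc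
  have hzx : z ∉ k⟮x⟯ := by
    intro hz'
    refine hy ?_
    rw [show y = z + (ι (c 2) + ι (c 4) * x) / 2 by simp [z]]
    refine add_mem hz' (div_mem (add_mem (IntermediateField.algebraMap_mem _ _)
      (mul_mem (IntermediateField.algebraMap_mem _ _) (IntermediateField.mem_adjoin_simple_self k x))) ?_)
    rw [← map_ofNat ι 2]
    exact IntermediateField.algebraMap_mem _ _
  have hnr : ∀ r : k, z ≠ ι r := fun r hr => hzx (hr ▸ IntermediateField.algebraMap_mem _ _)
  have hsq : ∀ (m : K) (r : k), m * m = ι r → ∃ r', ι r' = m := by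
    intro m r hm
    by_contra hno
    refine FFLib.transcendental_of_not_range hK hno ⟨X * X - C r, ?_, by simp [hm, ι]⟩
    intro h0
    have := congrArg (fun p : k[X] => p.coeff 2) h0
    simp at this
  have hzt : ∀ (F : IntermediateField k K), x ∈ F → z ∈ F → F = ⊤ := by
    intro F hx' hz'
    refine hgen F hx' ?_
    rw [show y = z + (ι (c 2) + ι (c 4) * x) / 2 by simp [z]]
    refine add_mem hz' (div_mem (add_mem (IntermediateField.algebraMap_mem _ _)
      (mul_mem (IntermediateField.algebraMap_mem _ _) hx')) ?_)
    rw [← map_ofNat ι 2]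
    exact IntermediateField.algebraMap_mem _ _
  by_cases hA : A = 0
  · have hB : B ≠ 0 := by
      intro hB
      obtain ⟨r, hr⟩ := hsq z D (by rw [hz, hA, hB]; simp)
      exact hnr r hr.symm
    have hz0 : z ≠ 0 := fun h0 => hnr 0 (by simp [h0])
    have hxz : x = (z * z - ι D) / ι B := by
      rw [hz, hA, map_zero, zero_mul, zero_add, add_sub_cancel_right, mul_div_cancel_left₀]
      simpa [ι] using hB
    refine ⟨(z - z⁻¹) / 2, (z + z⁻¹) / 2, 1, 1, one_ne_zero, one_ne_zero, ?_, ?_, ?_⟩
    · refine FFLib.transcendental_of_not_range hK fun ⟨r, hr⟩ => ?_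
      obtain ⟨e, he⟩ := hsq (z - ι r) (1 + r * r) (by
        rw [map_add, map_one, map_mul]
        have hr' : ι r * 2 = z - z⁻¹ := (eq_div_iff h2).1 hr
        linear_combination (-z) * hr' + mul_inv_cancel₀ hz0)
      exact hnr (e + r) (by rw [map_add, he]; ring)
    · rw [map_one]; field_simp; ring
    · have hzF : (z - z⁻¹) / 2 + (z + z⁻¹) / 2 ∈
          IntermediateField.adjoin k {(z - z⁻¹) / 2, (z + z⁻¹) / 2} :=
        add_mem (IntermediateField.subset_adjoin k _ (by simp)) (IntermediateField.subset_adjoin k _ (by simp))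
      have hsum : (z - z⁻¹) / 2 + (z + z⁻¹) / 2 = z := by ring
      have hzF' := hzF
      conv at hzF' => arg 2; rw [hsum]
      clear hzF
      rename' hzF' => hzF
      refine hzt _ ?_ hzF
      rw [hxz]
      exact div_mem (sub_mem (mul_mem hzF hzF) (IntermediateField.algebraMap_mem _ _))
        (IntermediateField.algebraMap_mem _ _)
  · have hιA : ι A ≠ 0 := by simpa [ι] using hA
    let s : K := x + ι (B / (2 * A))
    have hs : s ≠ 0 := fun h0 => ht (by
      rw [show x = - ι (B / (2 * A)) from eq_neg_of_add_eq_zero_left h0]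
      exact (isAlgebraic_algebraMap _).neg)
    have hz' : z * z = ι A * (s * s) + ι (D - B * B / (4 * A)) := by
      rw [hz]
      simp only [s, map_sub, map_div₀, map_mul, map_ofNat]
      field_simp
      ring
    have hD : D - B * B / (4 * A) ≠ 0 := by
      intro h0
      obtain ⟨r, hr⟩ := hsq (z / s) A (by rw [div_mul_div_comm, hz', h0, map_zero, add_zero, mul_div_cancel_right₀ _ (mul_ne_zero hs hs)])
      refine hzx ?_
      rw [show z = ι r * s by rw [hr, div_mul_cancel₀ _ hs]]
      exact mul_mem (IntermediateField.algebraMap_mem _ _)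
        (add_mem (IntermediateField.mem_adjoin_simple_self k x) (IntermediateField.algebraMap_mem _ _))
    refine ⟨s, z, A, D - B * B / (4 * A), hA, hD, ?_, hz', ?_⟩
    · intro hal
      refine ht ?_
      rw [show x = s - ι (B / (2 * A)) by simp [s]]
      exact hal.sub (isAlgebraic_algebraMap _)
    · refine hzt _ ?_ (IntermediateField.subset_adjoin k _ (by simp))
      rw [show x = s - ι (B / (2 * A)) by simp [s]]
      exact sub_mem (IntermediateField.subset_adjoin k _ (by simp)) (IntermediateField.algebraMap_mem _ _)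

end Groth.Agent.EssP1
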