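import Groth.Agent.EssP1.Std
import Groth.Prelude.Def_EssDim

/-!
# Descent of pointed genus zero curves to the prime subfield
-/

set_option autoImplicit false
set_option backward.isDefEq.respectTransparency false
set_option linter.style.haveILetI false

universe u

open CategoryTheory CategoryTheory.Limits AlgebraicGeometry Opposite

noncomputable section

namespace Groth.Agent.EssP1

open CohB1

variable (k : Type u) [Field k]

/-- The projective line with its coordinate points. -/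
def stdFam (n : ℕ) (hn : n ≤ 1 + 1) (K : Type u) [Field K] [Algebra k K] :
    CurvSt.PtFamObj (Spec (CommRingCat.of k)) n where
  base := SGA7.pt K
  C := ProjSpace 1 K
  f := ProjSpace.toSpec 1 K
  sect i := stdPt K (Fin.castLE hn i)
  sect_f i := stdPt_toSpec K _

theorem stdFam_prop (n : ℕ) (hn : n ≤ 1 + 1) (K : Type u) [Field K] [Algebra k K] :
    CurvSt.IsSmoothPtdFam (stdFam k n hn K).f (stdFam k n hn K).sect 0 :=
  ⟨isCurveOfGenus_zero K, fun _ _ hij => stdPt_base_ne K fun h => hij (Fin.castLE_injective hn h)⟩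

theorem edSt_eq_zero (n : ℕ) [FibCat.IsFibGrpd (CurvSt.Mgn (Spec (CommRingCat.of k)) 0 n).p] (hn : n ≤ 1 + 1)
    (hiso : ∀ (L : Type u) [Field L] (C : Scheme.{u}) (f : C ⟶ Spec (CommRingCat.of L)) (σ : Fin n → (Spec (CommRingCat.of L) ⟶ C)),
      (∀ i, σ i ≫ f = 𝟙 _) → CurvSt.IsSmoothPtdFam f σ 0 →
        ∃ e : C ≅ ProjSpace 1 L, e.hom ≫ ProjSpace.toSpec 1 L = f ∧ ∀ i, σ i ≫ e.hom = stdPt L (Fin.castLE hn i)) :
    EssDim.edSt (CurvSt.Mgn (Spec (CommRingCat.of k)) 0 n) = 0 := by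
  refine le_antisymm ?_ ?_
  · refine iSup_le fun L => iSup_le fun _ => iSup_le fun _ => iSup_le fun ξ => ?_
    have h : EssDim.edAt _ ξ = 0 := by
      refine le_antisymm ?_ bot_le
      induction ξ using Quot.ind with
      | mk x =>
        refine (EssDim.edAt_le_of_descends (K := (⊥ : IntermediateField k L)) ?_).trans (by
          rw [trdeg_eq_zero, map_zero])
        rw [EssDim.descends_isoCl_iff]
        obtain ⟨⟨⟨T, C, f, σ, hσ⟩, hx⟩, hT⟩ := x
        change T = SGA7.pt L at hT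
        subst hT
        obtain ⟨e, he, hes⟩ := hiso L C f σ hσ hx
        let g : (⊥ : IntermediateField k L) →+* L := ((⊥ : IntermediateField k L).val : _ →+* L)
        let x₀ : (CurvSt.Mgn (Spec (CommRingCat.of k)) 0 n).obj :=
          ⟨stdFam k n hn (⊥ : IntermediateField k L), stdFam_prop k n hn _⟩
        let φ : (CurvSt.PtFamObj.mk (SGA7.pt L) C f σ hσ) ⟶ x₀.obj :=
          { base := EssDim.resPt (⊥ : IntermediateField k L).val
            top := e.hom ≫ ProjX.pmap 1 g
            cart := by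
              have hcart := (IsPullback.of_horiz_isIso (show CommSq e.hom f (ProjSpace.toSpec 1 L) (𝟙 _) from
                ⟨by rw [he, Category.comp_id]⟩)).paste_horiz (ProjX.isPullback_pmap 1 g)
              rw [Category.id_comp] at hcart
              exact hcart
            w_sect := fun i => by
              rw [← Category.assoc]
              show (σ i ≫ e.hom) ≫ _ = _
              rw [hes]
              exact stdPt_pmap _ g _ }
        let φ' : (⟨_, hx⟩ : (CurvSt.Mgn (Spec (CommRingCat.of k)) 0 n).obj) ⟶ x₀ := ObjectProperty.homMk φ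
        refine ⟨⟨x₀, rfl⟩, φ', ?_⟩
        exact @CategoryTheory.IsHomLift.map _ _ _ _ (CurvSt.Mgn (Spec (CommRingCat.of k)) 0 n).p _ _ φ'
    rw [h]
    rfl
  · refine le_trans ?_ (EssDim.edAt_le_ed (P := Gerb.isoClPsh (CurvSt.Mgn (Spec (CommRingCat.of k)) 0 n))
      (L := k) (Quot.mk _ ⟨⟨stdFam k n hn k, stdFam_prop k n hn k⟩, rfl⟩))
    exact WithBot.coe_le_coe.2 bot_le

theorem edSt_one [FibCat.IsFibGrpd (CurvSt.Mgn (Spec (CommRingCat.of k)) 0 1).p] :
    EssDim.edSt (CurvSt.Mgn (Spec (CommRingCat.of k)) 0 1) = 0 := by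
  refine edSt_eq_zero k 1 (by omega) fun L _ C f σ hσ h => ?_
  obtain ⟨e, he⟩ := exists_iso_of_section f h.1 (σ 0) (hσ 0)
  obtain ⟨a, ha, h0⟩ := exists_aut_one (σ 0 ≫ e.hom) (by rw [Category.assoc, he, hσ])
  refine ⟨e ≪≫ a, by rw [Iso.trans_hom, Category.assoc, ha, he], fun i => ?_⟩
  rw [Subsingleton.elim i 0, Iso.trans_hom, ← Category.assoc, h0]
  rfl

theorem edSt_two [FibCat.IsFibGrpd (CurvSt.Mgn (Spec (CommRingCat.of k)) 0 2).p] :
    EssDim.edSt (CurvSt.Mgn (Spec (CommRingCat.of k)) 0 2) = 0 := by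
  refine edSt_eq_zero k 2 le_rfl fun L _ C f σ hσ h => ?_
  obtain ⟨e, he⟩ := exists_iso_of_section f h.1 (σ 0) (hσ 0)
  have hne : σ 0 ≫ e.hom ≠ σ 1 ≫ e.hom := by
    rw [Ne, cancel_mono]
    intro hh
    obtain ⟨p⟩ : Nonempty (Spec (CommRingCat.of L)) := inferInstanceAs (Nonempty (PrimeSpectrum L))
    exact h.2 0 1 (by decide) p (congrArg (fun m : Spec (CommRingCat.of L) ⟶ C => m.base p) hh)
  obtain ⟨a, ha, h0, h1⟩ := exists_aut_two (σ 0 ≫ e.hom) (σ 1 ≫ e.hom) (by rw [Category.assoc, he, hσ])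
    (by rw [Category.assoc, he, hσ]) hne
  refine ⟨e ≪≫ a, by rw [Iso.trans_hom, Category.assoc, ha, he], fun i => ?_⟩
  rw [Iso.trans_hom, ← Category.assoc]
  fin_cases i
  · exact h0
  · exact h1

end Groth.Agent.EssP1
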