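import Groth.Agent.EssP1.EssDim
import Groth.Agent.EssP1.Conic
import Groth.Agent.EssP1.ConicField
import Groth.Agent.CurveBC.Main

/-!
# The essential dimension of genus zero curves is at most two
-/

set_option autoImplicit false
set_option backward.isDefEq.respectTransparency false
set_option backward.isDefEq.respectTransparency.types false
set_option linter.style.haveILetI false
set_option maxHeartbeats 1000000

universe u

open CategoryTheory CategoryTheory.Limits AlgebraicGeometry Opposite

noncomputable section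

namespace Groth.Agent.EssP1

attribute [local instance] ZetaCurve.ffAlg

theorem trdeg_adjoin_pair_le {k L : Type u} [Field k] [Field L] [Algebra k L] (a b : L) :
    Algebra.trdeg k (IntermediateField.adjoin k {a, b}) ≤ 2 := by
  let K₀ := IntermediateField.adjoin k ({a, b} : Set L)
  let a' : K₀ := ⟨a, IntermediateField.subset_adjoin k _ (by simp)⟩
  let b' : K₀ := ⟨b, IntermediateField.subset_adjoin k _ (by simp)⟩
  haveI : Algebra.IsAlgebraic (Algebra.adjoin k ({a', b'} : Set K₀)) K₀ := by
    refine ⟨fun z => ?_⟩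
    obtain ⟨x, hx, y, hy, hxy⟩ := IntermediateField.mem_adjoin_iff_div.1 z.2
    have hmap : (Algebra.adjoin k ({a', b'} : Set K₀)).map K₀.val = Algebra.adjoin k ({a, b} : Set L) := by
      rw [AlgHom.map_adjoin, Set.image_pair]
      rfl
    rw [← hmap] at hx hy
    obtain ⟨x', hx', rfl⟩ := hx
    obtain ⟨y', hy', rfl⟩ := hy
    have hz : z = x' * y'⁻¹ := Subtype.ext (by rw [← div_eq_mul_inv]; exact hxy)
    rw [hz]
    exact (isAlgebraic_algebraMap (A := K₀) (⟨x', hx'⟩ : Algebra.adjoin k ({a', b'} : Set K₀))).mul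
      (isAlgebraic_algebraMap (A := K₀) (⟨y', hy'⟩ : Algebra.adjoin k ({a', b'} : Set K₀))).inv
  refine (Algebra.IsAlgebraic.trdeg_le_cardinalMk k ({a', b'} : Set K₀)).trans ?_
  refine (Cardinal.mk_insert_le).trans ?_
  rw [Cardinal.mk_singleton]
  norm_num

variable (k : Type u) [Field k] [CharZero k]

/-- Every genus zero curve comes from a conic over a field of transcendence degree at most two. -/
theorem exists_conic_model {L : Type u} [Field L] [Algebra k L] {C : Scheme.{u}} (f : C ⟶ Spec (CommRingCat.of L))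
    (h : ModFun.IsCurveOfGenus 0 f) :
    ∃ (K : IntermediateField k L) (V : Scheme.{u}) (g : V ⟶ Spec (CommRingCat.of K)) (top : C ⟶ V),
      Cardinal.toENat (Algebra.trdeg k K) ≤ 2 ∧ ModFun.IsCurveOfGenus 0 g ∧
      IsPullback top f g (Spec.map (CommRingCat.ofHom (algebraMap K L))) := by
  obtain ⟨hsm, hpr, hirr, hfib⟩ := h
  haveI : CharZero L := charZero_of_injective_algebraMap (algebraMap k L).injective
  letI : C.Over (Spec (CommRingCat.of L)) := ⟨f⟩
  haveI : Smooth (C ↘ Spec (CommRingCat.of L)) := hsm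
  haveI : IsProper (C ↘ Spec (CommRingCat.of L)) := hpr
  haveI : GeometricallyIrreducible (C ↘ Spec (CommRingCat.of L)) := hirr
  haveI : Subsingleton (Spec (CommRingCat.of L)) := inferInstanceAs (Subsingleton (PrimeSpectrum L))
  haveI : IrreducibleSpace C := GeometricallyIrreducible.irreducibleSpace_of_subsingleton (C ↘ Spec (CommRingCat.of L))
  haveI := quasiSeparatedSpace_of_quasiSeparated (C ↘ Spec (CommRingCat.of L))
  haveI := QuasiCompact.compactSpace_of_compactSpace (C ↘ Spec (CommRingCat.of L))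
  haveI : IsIntegral C := CurveCohLib.isIntegral_of_smooth_connected (C ↘ Spec (CommRingCat.of L))
  let Ω := AlgebraicClosure L
  obtain ⟨hd, hg⟩ := hfib Ω (Spec.map (CommRingCat.ofHom (algebraMap L Ω))) (Curv2.bc L C Ω) (Curv2.bcFst L C Ω)
    (Curv2.bcSnd L C Ω) (IsPullback.of_hasPullback _ _)
  letI : (Curv2.bc L C Ω).Over (Spec (CommRingCat.of Ω)) := ⟨Curv2.bcSnd L C Ω⟩
  have hpb : IsPullback (Curv2.bcFst L C Ω) ((Curv2.bc L C Ω) ↘ Spec (CommRingCat.of Ω)) (C ↘ Spec (CommRingCat.of L))
      (Spec.map (CommRingCat.ofHom (algebraMap L Ω))) := IsPullback.of_hasPullback _ _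
  haveI : Subsingleton (Spec (CommRingCat.of Ω)) := inferInstanceAs (Subsingleton (PrimeSpectrum Ω))
  haveI : Nonempty (Spec (CommRingCat.of Ω)) := inferInstanceAs (Nonempty (PrimeSpectrum Ω))
  haveI := CurveBC.isProper L Ω _ hpb
  have hdim : topologicalKrullDim C = 1 := (FibDim.topologicalKrullDim_baseChange hpb).symm.trans hd
  have hgen : Curv2.genus L C = 0 := (CurveBC.genus_eq L Ω _ hpb).symm.trans hg
  have hirr' : GeometricallyConnected (C ↘ Spec (CommRingCat.of L)) := by
    constructor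
    intro M _ y W fst snd hW
    haveI := GeometricallyIrreducible.geometrically_irreducibleSpace (f := C ↘ Spec (CommRingCat.of L)) y fst snd hW
    infer_instance
  have h0 := CurveBC.finrank_h0_of_geometricallyConnected L C
  obtain ⟨s, w, a, b, ha, hb, hs, hw, htop⟩ := exists_diagonal_conic (ZetaCurve.isFunctionField L C hdim h0)
    ((ZetaCurve.genus_eq L C hdim h0).trans hgen)
  let K := IntermediateField.adjoin k ({a, b} : Set L)
  haveI : CharZero K := charZero_of_injective_algebraMap (algebraMap k K).injective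
  let a' : K := ⟨a, IntermediateField.subset_adjoin k _ (by simp)⟩
  let b' : K := ⟨b, IntermediateField.subset_adjoin k _ (by simp)⟩
  have ha' : a' ≠ 0 := fun h0 => ha (congrArg Subtype.val h0)
  have hb' : b' ≠ 0 := fun h0 => hb (congrArg Subtype.val h0)
  obtain ⟨hdimV, top, htop'⟩ := exists_isPullback_conic a' b' ha' hb' two_ne_zero hdim s w hs hw htop
  refine ⟨K, conic a' b', conicStr a' b', top, ?_, isCurveOfGenus_conic a' b' ha' hb' two_ne_zero hdimV, htop'⟩
  refine (Cardinal.toENat.monotone' (trdeg_adjoin_pair_le a b)).trans ?_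
  simp

theorem edSt_le_two [FibCat.IsFibGrpd (CurvSt.Mgn (Spec (CommRingCat.of k)) 0 0).p] :
    EssDim.edSt (CurvSt.Mgn (Spec (CommRingCat.of k)) 0 0) ≠ ⊥ ∧
      EssDim.edSt (CurvSt.Mgn (Spec (CommRingCat.of k)) 0 0) ≤ ((2 : ℕ) : WithBot ℕ∞) := by
  refine ⟨?_, ?_⟩
  · intro hbot
    have h := EssDim.edAt_le_ed (P := Gerb.isoClPsh (CurvSt.Mgn (Spec (CommRingCat.of k)) 0 0))
      (L := k) (Quot.mk _ ⟨⟨stdFam k 0 (by omega) k, stdFam_prop k 0 (by omega) k⟩, rfl⟩)
    rw [show EssDim.ed (Gerb.isoClPsh (CurvSt.Mgn (Spec (CommRingCat.of k)) 0 0)) = ⊥ from hbot, le_bot_iff] at h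
    exact WithBot.coe_ne_bot h
  · refine iSup_le fun L => iSup_le fun _ => iSup_le fun _ => iSup_le fun ξ => ?_
    have h : EssDim.edAt _ ξ ≤ (2 : ℕ∞) := by
      induction ξ using Quot.ind with
      | mk x =>
        obtain ⟨⟨⟨T, C, f, σ, hσ⟩, hx⟩, hT⟩ := x
        change T = SGA7.pt L at hT
        subst hT
        obtain ⟨K, V, g, top, htr, hg, hpb⟩ := exists_conic_model k f hx.1
        refine (EssDim.edAt_le_of_descends (K := K) ?_).trans htr
        rw [EssDim.descends_isoCl_iff]
        let x₀' : CurvSt.PtFamObj (Spec (CommRingCat.of k)) 0 :=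
          { base := SGA7.pt K, C := V, f := g, sect := Fin.elim0, sect_f := fun i => i.elim0 }
        let x₀ : (CurvSt.Mgn (Spec (CommRingCat.of k)) 0 0).obj := ⟨x₀', hg, fun i => i.elim0⟩
        let φ : (CurvSt.PtFamObj.mk (SGA7.pt L) C f σ hσ) ⟶ x₀' :=
          { base := EssDim.resPt K.val
            top := top
            cart := hpb
            w_sect := fun i => i.elim0 }
        let φ' : (⟨_, hx⟩ : (CurvSt.Mgn (Spec (CommRingCat.of k)) 0 0).obj) ⟶ x₀ := ObjectProperty.homMk φ
        refine ⟨⟨x₀, rfl⟩, φ', ?_⟩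
        exact @CategoryTheory.IsHomLift.map _ _ _ _ (CurvSt.Mgn (Spec (CommRingCat.of k)) 0 0).p _ _ φ'
    exact WithBot.coe_le_coe.2 h

end Groth.Agent.EssP1
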