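import Groth.Agent.ProjX.Chart
import Groth.Agent.ProjPt.Poly
import Groth.Agent.Proj16.RelExist

/-!
# Rational points of the projective line and linear changes of coordinates
-/

set_option autoImplicit false
set_option backward.isDefEq.respectTransparency false

universe u

open CategoryTheory CategoryTheory.Limits AlgebraicGeometry HomogeneousLocalization MvPolynomial

noncomputable section

namespace Groth.Agent.EssP1

open CohB1

variable {L : Type u} [Field L]

/-- A graded homomorphism sending each variable to a linear form. -/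
def linHom (v w : Fin (1 + 1) → L) : polyGrading 1 L →+*ᵍ polyGrading 1 L :=
  { (eval₂Hom MvPolynomial.C (fun j => MvPolynomial.C (v j) * X 0 + MvPolynomial.C (w j) * X 1) :
      MvPolynomial (Fin (1 + 1)) L →+* MvPolynomial (Fin (1 + 1)) L) with
    map_mem := fun {i a} ha => by
      have h := ((mem_homogeneousSubmodule _ _).1 ha).eval₂ (f := (MvPolynomial.C : L →+* MvPolynomial (Fin (1 + 1)) L))
        (g := fun j => MvPolynomial.C (v j) * X 0 + MvPolynomial.C (w j) * X 1) (n := 1)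
        (fun r => isHomogeneous_C _ r) (fun j => ((isHomogeneous_X L 0).C_mul _).add ((isHomogeneous_X L 1).C_mul _))
      rw [one_mul, ← coe_eval₂Hom] at h
      exact (mem_homogeneousSubmodule _ _).2 h }

theorem linHom_apply (v w : Fin (1 + 1) → L) (p : MvPolynomial (Fin (1 + 1)) L) :
    linHom v w p = eval₂Hom MvPolynomial.C (fun j => MvPolynomial.C (v j) * X 0 + MvPolynomial.C (w j) * X 1) p := rfl

theorem linHom_X (v w : Fin (1 + 1) → L) (j : Fin (1 + 1)) :
    linHom v w (X j) = MvPolynomial.C (v j) * X 0 + MvPolynomial.C (w j) * X 1 := eval₂Hom_X' _ _ j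

theorem linHom_C (v w : Fin (1 + 1) → L) (c : L) : linHom v w (MvPolynomial.C c) = MvPolynomial.C c :=
  eval₂Hom_C _ _ c

/-- The columns of the inverse matrix. -/
theorem linHom_comp (v w v' w' : Fin (1 + 1) → L)
    (h0 : v' 0 * v 0 + w' 0 * v 1 = 1) (h1 : v' 0 * w 0 + w' 0 * w 1 = 0)
    (h2 : v' 1 * v 0 + w' 1 * v 1 = 0) (h3 : v' 1 * w 0 + w' 1 * w 1 = 1) :
    (linHom v w).comp (linHom v' w') = GradedRingHom.id (polyGrading 1 L) := by
  refine GradedRingHom.ext fun p => ?_
  have h : ((linHom v w : MvPolynomial (Fin (1 + 1)) L →+* _)).comp (linHom v' w' : MvPolynomial (Fin (1 + 1)) L →+* _) =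
      RingHom.id _ := by
    refine MvPolynomial.ringHom_ext (fun c => ?_) fun j => ?_
    · show linHom v w (linHom v' w' (MvPolynomial.C c)) = MvPolynomial.C c
      rw [linHom_C, linHom_C]
    · show linHom v w (linHom v' w' (X j)) = X j
      rw [linHom_X, map_add, map_mul, map_mul, linHom_C, linHom_C, linHom_X, linHom_X]
      calc MvPolynomial.C (v' j) * (MvPolynomial.C (v 0) * X 0 + MvPolynomial.C (w 0) * X 1) +
            MvPolynomial.C (w' j) * (MvPolynomial.C (v 1) * X 0 + MvPolynomial.C (w 1) * X 1)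
          = MvPolynomial.C (v' j * v 0 + w' j * v 1) * X 0 + MvPolynomial.C (v' j * w 0 + w' j * w 1) * X 1 := by
            simp only [map_add, map_mul]; ring
        _ = X j := by
            fin_cases j
            · simp [h0, h1]
            · simp [h2, h3]
  exact congr($h p)

theorem irrelevant_le (v w v' w' : Fin (1 + 1) → L)
    (h : (linHom v w).comp (linHom v' w') = GradedRingHom.id (polyGrading 1 L)) :
    HomogeneousIdeal.irrelevant (polyGrading 1 L) ≤
      (HomogeneousIdeal.irrelevant (polyGrading 1 L)).map (linHom v w) := by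
  intro x hx
  have hx' : x ∈ (HomogeneousIdeal.irrelevant (polyGrading 1 L)).toIdeal := hx
  rw [ProjX.irrelevant_eq_span_X] at hx'
  refine (Ideal.span_le (I := ((HomogeneousIdeal.irrelevant (polyGrading 1 L)).map (linHom v w)).toIdeal)).2 ?_ hx'
  rintro _ ⟨j, rfl⟩
  rw [HomogeneousIdeal.toIdeal_map]
  have e : linHom v w (linHom v' w' (X j)) = X j := congr($h (X j))
  exact (congrArg (· ∈ _) e).mp
    (Ideal.mem_map_of_mem _ (HomogeneousIdeal.mem_irrelevant_of_mem _ one_pos ((linHom v' w').map_mem (ProjPt.X_mem j))))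

/-- The point with the given coordinates, in the chart of `x_i`. -/
def coordPt (i : Fin (1 + 1)) (v : Fin (1 + 1) → L) (hi : v i ≠ 0) :
    Spec (CommRingCat.of L) ⟶ ProjSpace 1 L :=
  ProjPt.pt (polyGrading 1 L) (eval₂Hom (Scheme.ΓSpecIso (CommRingCat.of L)).inv.hom
      (fun j => (Scheme.ΓSpecIso (CommRingCat.of L)).inv.hom (v j)))
    (ProjPt.X_mem i) one_pos (by rw [eval₂Hom_X']; exact (isUnit_iff_ne_zero.2 hi).map _)

theorem coordPt_indep (i j : Fin (1 + 1)) (v v' : Fin (1 + 1) → L) (hi : v i ≠ 0) (hj : v' j ≠ 0) (c : L)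
    (h : ∀ k, v' k = c * v k) : coordPt j v' hj = coordPt i v hi :=
  ProjPt.pt_scale_eval _ _ _ ((Scheme.ΓSpecIso (CommRingCat.of L)).inv.hom c)
    (fun k => by rw [h, map_mul]) _ _ _ _

theorem pt_toSpec {n : ℕ} {R : Type u} [CommRing R] {W : Scheme.{u}}
    (f : MvPolynomial (Fin (n + 1)) R →+* Γ(W, ⊤)) {t : MvPolynomial (Fin (n + 1)) R} {d : ℕ}
    (ht : t ∈ polyGrading n R d) (hd : 0 < d) (hu : IsUnit (f t)) :
    ProjPt.pt (polyGrading n R) f ht hd hu ≫ ProjSpace.toSpec n R =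
      W.toSpecΓ ≫ Spec.map (CommRingCat.ofHom (f.comp MvPolynomial.C)) := by
  rw [ProjPt.pt, ProjSpace.toSpec, Category.assoc, Category.assoc, Proj.awayι_toSpecZero_assoc,
    ← Spec.map_comp, ← Spec.map_comp]
  congr 2
  refine CommRingCat.hom_ext (RingHom.ext fun r => ?_)
  show ProjPt.coordHom (polyGrading n R) f hu (fromZeroRingHom (polyGrading n R) _ (algebraMap R _ r)) = f (MvPolynomial.C r)
  have h : fromZeroRingHom (polyGrading n R) (Submonoid.powers t) (algebraMap R _ r) =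
      Away.mk (polyGrading n R) ht 0 (MvPolynomial.C r)
        (by rw [zero_smul]; exact (mem_homogeneousSubmodule _ _).mpr (isHomogeneous_C _ r)) := by
    apply val_injective
    rw [Away.val_mk]
    rfl
  rw [h, ProjPt.coordHom_mk_eq_iff, pow_zero, mul_one]

theorem coordPt_toSpec (i : Fin (1 + 1)) (v : Fin (1 + 1) → L) (hi : v i ≠ 0) :
    coordPt i v hi ≫ ProjSpace.toSpec 1 L = 𝟙 _ := by
  rw [coordPt, pt_toSpec, ← show (Scheme.ΓSpecIso (CommRingCat.of L)).inv.hom =
    (eval₂Hom (Scheme.ΓSpecIso (CommRingCat.of L)).inv.hom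
      (fun j => (Scheme.ΓSpecIso (CommRingCat.of L)).inv.hom (v j))).comp MvPolynomial.C from
        RingHom.ext fun r => (eval₂Hom_C _ _ r).symm, CommRingCat.ofHom_hom]
  exact toSpecΓ_SpecMap_ΓSpecIso_inv _

theorem pt_map {A σ B τ : Type u} [CommRing A] [SetLike σ A] [AddSubgroupClass σ A] [CommRing B] [SetLike τ B]
    [AddSubgroupClass τ B] {𝒜 : ℕ → σ} [GradedRing 𝒜] {ℬ : ℕ → τ} [GradedRing ℬ] (φ : 𝒜 →+*ᵍ ℬ)
    (hφ : HomogeneousIdeal.irrelevant ℬ ≤ (HomogeneousIdeal.irrelevant 𝒜).map φ) {W : Scheme.{u}}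
    (f : B →+* Γ(W, ⊤)) {t : A} {d : ℕ} (ht : t ∈ 𝒜 d) (hd : 0 < d) (hu : IsUnit (f (φ t))) :
    ProjPt.pt ℬ f (φ.map_mem ht) hd hu ≫ Proj.map φ hφ = ProjPt.pt 𝒜 (f.comp (φ : A →+* B)) ht hd hu := by
  rw [ProjPt.pt, ProjPt.pt, Category.assoc, Category.assoc]
  erw [Proj.awayι_comp_map φ hφ hd t ht]
  rw [
    ← Spec.map_comp_assoc, ← CommRingCat.ofHom_comp]
  congr 4
  refine RingHom.ext fun x => ?_
  obtain ⟨n, a, ha, rfl⟩ := Away.mk_surjective 𝒜 ht x
  show ProjPt.coordHom ℬ f hu (Away.map φ t (Away.mk 𝒜 ht n a ha)) = _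
  rw [Away.map_mk]
  symm
  rw [ProjPt.coordHom_mk_eq_iff]
  exact ((ProjPt.coordHom_mk_mul ℬ f hu (φ.map_mem ht) n (φ a) (φ.map_mem ha)))

/-- Every rational point has homogeneous coordinates. -/
theorem exists_coordPt (s : Spec (CommRingCat.of L) ⟶ ProjSpace 1 L)
    (hs : s ≫ ProjSpace.toSpec 1 L = 𝟙 _) :
    ∃ (i : Fin (1 + 1)) (v : Fin (1 + 1) → L) (hi : v i ≠ 0), s = coordPt i v hi := by
  haveI : Subsingleton (Spec (CommRingCat.of L)) := inferInstanceAs (Subsingleton (PrimeSpectrum L))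
  haveI : Nonempty (Spec (CommRingCat.of L)) := inferInstanceAs (Nonempty (PrimeSpectrum L))
  obtain ⟨p⟩ : Nonempty (Spec (CommRingCat.of L)) := inferInstance
  obtain ⟨i, hi⟩ : ∃ i : Fin (1 + 1), s p ∈ Proj.basicOpen (polyGrading 1 L) (X i) := by
    by_contra h
    push Not at h
    refine (s p).not_irrelevant_le ?_
    intro x hx
    have hx' : x ∈ (HomogeneousIdeal.irrelevant (polyGrading 1 L)).toIdeal := hx
    rw [ProjX.irrelevant_eq_span_X] at hx'
    refine (Ideal.span_le.2 ?_ : _ ≤ (s p).asHomogeneousIdeal.toIdeal) hx'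
    rintro _ ⟨j, rfl⟩
    have := h j
    rw [Proj.mem_basicOpen, not_not] at this
    exact this
  have hr : Set.range s ⊆ Set.range (Proj.awayι (polyGrading 1 L) (X i) (ProjPt.X_mem i) one_pos) := by
    rintro _ ⟨q, rfl⟩
    rw [Subsingleton.elim q p]
    have := hi
    rw [← Proj.opensRange_awayι (polyGrading 1 L) (X i) (ProjPt.X_mem i) one_pos] at this
    exact this
  let q := IsOpenImmersion.lift (Proj.awayι (polyGrading 1 L) (X i) (ProjPt.X_mem i) one_pos) s hr
  let e := (Scheme.ΓSpecIso (CommRingCat.of L))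
  let u : Away (polyGrading 1 L) (X i) →+* Γ(Spec (CommRingCat.of L), ⊤) :=
    ((Scheme.ΓSpecIso (CommRingCat.of (Away (polyGrading 1 L) (X i)))).inv ≫ q.appTop).hom
  have hu0 : IsUnit (eval₂Hom (u.comp (ProjPt.cst i)) (fun k => u (ProjPt.crd i k)) (X i)) := by
    rw [eval₂Hom_X', ProjPt.crd_self, map_one]; exact isUnit_one
  have hspt : s = ProjPt.pt (polyGrading 1 L) _ (ProjPt.X_mem i) one_pos hu0 := by
    rw [ProjPt.pt, ← ProjPt.eq_coordHom i u hu0, ← Category.assoc]
    refine Eq.trans (IsOpenImmersion.lift_fac _ s hr).symm ?_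
    congr 1
    exact ProjPt.eq_toSpecΓ q
  have hc : u.comp (ProjPt.cst i) = e.inv.hom := by
    have h := hs
    rw [hspt, pt_toSpec] at h
    have h2 : (Spec (CommRingCat.of L)).toSpecΓ ≫ Spec.map e.inv = 𝟙 _ := toSpecΓ_SpecMap_ΓSpecIso_inv _
    rw [← h2, cancel_epi] at h
    have := congrArg CommRingCat.Hom.hom (Spec.map_injective h)
    refine (RingHom.ext fun r => ?_).trans this
    exact (eval₂Hom_C _ _ r).symm
  let v : Fin (1 + 1) → L := fun k => e.hom.hom (u (ProjPt.crd i k))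
  have hinv : ∀ x, e.inv.hom (e.hom.hom x) = x := fun x => by
    rw [← CommRingCat.comp_apply, e.hom_inv_id]; rfl
  have hvi : v i ≠ 0 := by
    simp only [v, ProjPt.crd_self, map_one]
    exact one_ne_zero
  refine ⟨i, v, hvi, hspt.trans (ProjPt.pt_congr _ _ _ ?_ _ _ _ _)⟩
  refine MvPolynomial.ringHom_ext (fun r => ?_) fun k => ?_
  · rw [eval₂Hom_C, eval₂Hom_C, hc]
  · rw [eval₂Hom_X', eval₂Hom_X', hinv]

/-- Any pair of independent coordinate vectors is the image of the coordinate points under an automorphism. -/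
theorem exists_aut (v w : Fin (1 + 1) → L) (hd : v 0 * w 1 - v 1 * w 0 ≠ 0) (i j : Fin (1 + 1))
    (hi : v i ≠ 0) (hj : w j ≠ 0) :
    ∃ e : ProjSpace 1 L ≅ ProjSpace 1 L, e.hom ≫ ProjSpace.toSpec 1 L = ProjSpace.toSpec 1 L ∧
      coordPt 0 (Pi.single 0 1) (by simp) ≫ e.hom = coordPt i v hi ∧
      coordPt 1 (Pi.single 1 1) (by simp) ≫ e.hom = coordPt j w hj := by
  let D := (v 0 * w 1 - v 1 * w 0)⁻¹
  let v' : Fin (1 + 1) → L := ![w 1 * D, -(v 1) * D]
  let w' : Fin (1 + 1) → L := ![-(w 0) * D, v 0 * D]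
  have hD : (v 0 * w 1 - v 1 * w 0) * D = 1 := mul_inv_cancel₀ hd
  have hA : (linHom v w).comp (linHom v' w') = GradedRingHom.id (polyGrading 1 L) := by
    refine linHom_comp v w v' w' ?_ ?_ ?_ ?_ <;> simp [v', w'] <;> first | linear_combination hD | ring
  have hB : (linHom v' w').comp (linHom v w) = GradedRingHom.id (polyGrading 1 L) := by
    refine linHom_comp v' w' v w ?_ ?_ ?_ ?_ <;> simp [v', w'] <;> first | linear_combination hD | ring
  have iA := irrelevant_le v w v' w' hA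
  have iB := irrelevant_le v' w' v w hB
  let e : ProjSpace 1 L ≅ ProjSpace 1 L :=
    { hom := Proj.map (linHom v w) iA
      inv := Proj.map (linHom v' w') iB
      hom_inv_id := ((Proj.map_comp (linHom v' w') (linHom v w) iB iA).symm.trans
        (Proj16.proj_map_congr hA _ (by simp))).trans Proj.map_id
      inv_hom_id := ((Proj.map_comp (linHom v w) (linHom v' w') iA iB).symm.trans
        (Proj16.proj_map_congr hB _ (by simp))).trans Proj.map_id }
  have hw : e.hom ≫ ProjSpace.toSpec 1 L = ProjSpace.toSpec 1 L := by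
    refine (Proj.mapAffineOpenCover (linHom v w) iA).openCover.hom_ext _ _ fun s => ?_
    show Proj.awayι (polyGrading 1 L) (linHom v w s.2) _ _ ≫ Proj.map (linHom v w) iA ≫ ProjSpace.toSpec 1 L = _
    rw [Proj.awayι_comp_map_assoc (linHom v w) iA s.1.2 _ s.2.2, ProjSpace.toSpec]
    show _ = Proj.awayι (polyGrading 1 L) (linHom v w s.2) _ _ ≫ _
    rw [Proj.awayι_toSpecZero_assoc, Proj.awayι_toSpecZero_assoc, ← Spec.map_comp, ← Spec.map_comp, ← Spec.map_comp]
    congr 1
    refine CommRingCat.hom_ext (RingHom.ext fun r => ?_)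
    apply val_injective
    rw [CommRingCat.hom_comp, CommRingCat.hom_comp, CommRingCat.hom_comp, RingHom.comp_apply, RingHom.comp_apply,
      RingHom.comp_apply, CommRingCat.hom_ofHom, CommRingCat.hom_ofHom, CommRingCat.hom_ofHom, CommRingCat.hom_ofHom]
    rw [show fromZeroRingHom (polyGrading 1 L) (Submonoid.powers (s.2 : MvPolynomial (Fin (1 + 1)) L)) (algebraMap L _ r) =
      Away.mk (polyGrading 1 L) s.2.2 0 (MvPolynomial.C r)
        (by rw [zero_smul]; exact (mem_homogeneousSubmodule _ _).mpr (isHomogeneous_C _ r)) from by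
          apply val_injective; rw [Away.val_mk]; rfl]
    exact (congrArg HomogeneousLocalization.val ((Away.map_mk (linHom v w) _ _ 0 (MvPolynomial.C r)
      (by rw [zero_smul]; exact (mem_homogeneousSubmodule _ _).mpr (isHomogeneous_C _ r))))).trans (by
        rw [Away.val_mk]; simp only [linHom_C]; rfl)
  have key : ∀ (k l : Fin (1 + 1)) (a : Fin (1 + 1) → L), (∀ j, a j = (![v j, w j] : Fin (1 + 1) → L) k) →
      ∀ (ha : a l ≠ 0), coordPt k (Pi.single k 1) (by simp) ≫ e.hom = coordPt l a ha := by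
    intro k l a hkl ha
    let c := (Scheme.ΓSpecIso (CommRingCat.of L)).inv.hom
    let f : MvPolynomial (Fin (1 + 1)) L →+* _ := eval₂Hom c fun j => c ((Pi.single k 1 : Fin (1 + 1) → L) j)
    have hf : f.comp ((linHom v w : MvPolynomial (Fin (1 + 1)) L →+* _)) = eval₂Hom c fun j => c (a j) := by
      refine MvPolynomial.ringHom_ext (fun r => ?_) fun j => ?_
      · show f (linHom v w (MvPolynomial.C r)) = _
        rw [linHom_C, eval₂Hom_C, eval₂Hom_C]
      · show f (linHom v w (X j)) = _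
        rw [linHom_X, map_add, map_mul, map_mul, eval₂Hom_C, eval₂Hom_C, eval₂Hom_X', eval₂Hom_X', eval₂Hom_X', hkl]
        fin_cases k <;> simp
    have hl : IsUnit (f (linHom v w (X l))) := by
      rw [show f (linHom v w (X l)) = _ from congr($hf (X l)), eval₂Hom_X']
      exact (isUnit_iff_ne_zero.2 ha).map _
    rw [show coordPt k (Pi.single k 1) (by simp) = ProjPt.pt (polyGrading 1 L) f ((linHom v w).map_mem (ProjPt.X_mem l)) one_pos hl
      from ProjPt.pt_indep _ _ _ _ _ _ _ _]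
    rw [pt_map (linHom v w) iA f (ProjPt.X_mem l) one_pos hl]
    exact ProjPt.pt_congr _ _ _ hf _ _ _ _
  exact ⟨e, hw, key 0 i v (fun j => rfl) hi, key 1 j w (fun j => rfl) hj⟩

/-- An automorphism taking the coordinate point `0` to a given point. -/
theorem exists_aut_one (s : Spec (CommRingCat.of L) ⟶ ProjSpace 1 L) (hs : s ≫ ProjSpace.toSpec 1 L = 𝟙 _) :
    ∃ e : ProjSpace 1 L ≅ ProjSpace 1 L, e.hom ≫ ProjSpace.toSpec 1 L = ProjSpace.toSpec 1 L ∧
      s ≫ e.hom = coordPt 0 (Pi.single 0 1) (by simp) := by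
  obtain ⟨i, v, hi, rfl⟩ := exists_coordPt s hs
  fin_cases i
  · obtain ⟨e, he, h0, -⟩ := exists_aut v ![0, 1] (by simpa using hi) 0 1 hi (by simp)
    exact ⟨e.symm, by rw [Iso.symm_hom, Iso.inv_comp_eq, he], by rw [Iso.symm_hom, Iso.comp_inv_eq]; exact h0.symm⟩
  · obtain ⟨e, he, h0, -⟩ := exists_aut v ![1, 0] (by simpa using hi) 1 0 hi (by simp)
    exact ⟨e.symm, by rw [Iso.symm_hom, Iso.inv_comp_eq, he], by rw [Iso.symm_hom, Iso.comp_inv_eq]; exact h0.symm⟩

/-- An automorphism taking the coordinate points to two given different points. -/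
theorem exists_aut_two (s t : Spec (CommRingCat.of L) ⟶ ProjSpace 1 L) (hs : s ≫ ProjSpace.toSpec 1 L = 𝟙 _)
    (ht : t ≫ ProjSpace.toSpec 1 L = 𝟙 _) (hst : s ≠ t) :
    ∃ e : ProjSpace 1 L ≅ ProjSpace 1 L, e.hom ≫ ProjSpace.toSpec 1 L = ProjSpace.toSpec 1 L ∧
      s ≫ e.hom = coordPt 0 (Pi.single 0 1) (by simp) ∧ t ≫ e.hom = coordPt 1 (Pi.single 1 1) (by simp) := by
  obtain ⟨i, v, hi, rfl⟩ := exists_coordPt s hs
  obtain ⟨j, w, hj, rfl⟩ := exists_coordPt t ht
  have hd : v 0 * w 1 - v 1 * w 0 ≠ 0 := by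
    intro h
    refine hst (coordPt_indep j i w v hj hi (v j / w j) fun k => ?_)
    fin_cases j <;> fin_cases k <;> field_simp [hj] <;> simp_all <;> grind
  obtain ⟨e, he, h0, h1⟩ := exists_aut v w hd i j hi hj
  exact ⟨e.symm, by rw [Iso.symm_hom, Iso.inv_comp_eq, he], by rw [Iso.symm_hom, Iso.comp_inv_eq]; exact h0.symm,
    by rw [Iso.symm_hom, Iso.comp_inv_eq]; exact h1.symm⟩

end Groth.Agent.EssP1
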