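import Groth.Agent.EssP1.Lin
import Groth.Agent.CurveBC.Geometry
import Groth.Agent.CurveBC.Coh
import Groth.Agent.CurveBC.Main
import Groth.Agent.CurveEmbed.Conic
import Groth.Agent.S7810
import Groth.Agent.S7806
import Groth.Prelude.Def_StCurv

/-!
# Genus zero curves with rational points
-/

set_option autoImplicit false
set_option backward.isDefEq.respectTransparency false
set_option linter.style.haveILetI false

universe u

open CategoryTheory CategoryTheory.Limits AlgebraicGeometry MvPolynomial TopologicalSpace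

noncomputable section

namespace Groth.Agent.EssP1

open CohB1

section Std

variable (K : Type u) [Field K]

/-- The coordinate point `x_{1-i} = 0`. -/
def stdPt (i : Fin (1 + 1)) : Spec (CommRingCat.of K) ⟶ ProjSpace 1 K := coordPt i (Pi.single i 1) (by simp)

theorem stdPt_toSpec (i : Fin (1 + 1)) : stdPt K i ≫ ProjSpace.toSpec 1 K = 𝟙 _ := coordPt_toSpec _ _ _

theorem stdPt_pmap {L : Type u} [Field L] (g : K →+* L) (i : Fin (1 + 1)) :
    stdPt L i ≫ ProjX.pmap 1 g = Spec.map (CommRingCat.ofHom g) ≫ stdPt K i := by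
  have hX : ProjX.polyHom 1 g (X i) = X i := MvPolynomial.map_X g i
  have hu : IsUnit (eval₂Hom (Scheme.ΓSpecIso (CommRingCat.of L)).inv.hom
      (fun j => (Scheme.ΓSpecIso (CommRingCat.of L)).inv.hom ((Pi.single i 1 : Fin (1 + 1) → L) j))
      (ProjX.polyHom 1 g (X i))) := by
    rw [hX, eval₂Hom_X', Pi.single_eq_same, map_one]; exact isUnit_one
  rw [show stdPt L i = ProjPt.pt (polyGrading 1 L) _ ((ProjX.polyHom 1 g).map_mem (ProjPt.X_mem i)) one_pos hu
    from ProjPt.pt_indep _ _ _ _ _ _ _ _, ProjX.pmap, pt_map _ _ _ (ProjPt.X_mem i) one_pos hu,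
    stdPt, coordPt, ProjPt.comp_pt]
  refine ProjPt.pt_congr _ _ _ (MvPolynomial.ringHom_ext (fun r => ?_) fun j => ?_) _ _ _ _
  · show eval₂Hom _ _ (MvPolynomial.map g (MvPolynomial.C r)) =
      (Spec.map (CommRingCat.ofHom g)).appTop.hom (eval₂Hom _ _ (MvPolynomial.C r))
    rw [map_C, eval₂Hom_C, eval₂Hom_C]
    exact congr($(Scheme.ΓSpecIso_inv_naturality (CommRingCat.ofHom g)).hom r)
  · show eval₂Hom _ _ (MvPolynomial.map g (X j)) = (Spec.map (CommRingCat.ofHom g)).appTop.hom (eval₂Hom _ _ (X j))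
    rw [map_X, eval₂Hom_X', eval₂Hom_X']
    refine Eq.trans ?_ congr($(Scheme.ΓSpecIso_inv_naturality (CommRingCat.ofHom g)).hom ((Pi.single i 1 : Fin (1 + 1) → K) j))
    show _ = (Scheme.ΓSpecIso (CommRingCat.of L)).inv.hom (g ((Pi.single i 1 : Fin (1 + 1) → K) j))
    rw [Pi.single_apply, Pi.single_apply, apply_ite g, map_one, map_zero]

/-- The two coordinate points are different, also pointwise. -/
theorem stdPt_base_ne {i j : Fin (1 + 1)} (hij : i ≠ j) (c : Spec (CommRingCat.of K)) :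
    (stdPt K i).base c ≠ (stdPt K j).base c := by
  intro h
  haveI : Subsingleton (Spec (CommRingCat.of K)) := inferInstanceAs (Subsingleton (PrimeSpectrum K))
  have key : ∀ l : Fin (1 + 1), (stdPt K l).base c ∈ Proj.basicOpen (polyGrading 1 K) (X i) ↔ l = i := by
    intro l
    show c ∈ (stdPt K l) ⁻¹ᵁ Proj.basicOpen (polyGrading 1 K) (X i) ↔ _
    rw [stdPt, coordPt, ProjPt.pt_preimage_basicOpen _ _ _ _ _ (ProjPt.X_mem i) one_pos, eval₂Hom_X']
    by_cases hl : l = i
    · subst hl
      rw [Pi.single_eq_same, map_one, Scheme.basicOpen_of_isUnit _ isUnit_one]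
      exact ⟨fun _ => rfl, fun _ => trivial⟩
    · rw [Pi.single_eq_of_ne (Ne.symm hl), map_zero, Scheme.basicOpen_zero]
      exact ⟨fun h => h.elim, fun h => absurd h hl⟩
  have h2 := (key i).2 rfl
  rw [h] at h2
  exact hij ((key j).1 h2).symm

theorem isCurveOfGenus_zero : ModFun.IsCurveOfGenus 0 (ProjSpace.toSpec 1 K) := by
  haveI : Subsingleton (Spec (CommRingCat.of K)) := inferInstanceAs (Subsingleton (PrimeSpectrum K))
  refine ⟨CurveEmbed.smooth_toSpec 1 K, PnCoh.Chow.isProper_toSpec 1 K, ⟨?_⟩, ?_⟩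
  · intro L _ y W fst snd h
    obtain ⟨g, rfl⟩ := Spec.map_surjective y
    haveI : IsIntegral (ProjSpace 1 L) := H23.PnChart.isIntegral_projSpace 1 L
    let e : ProjSpace 1 L ≅ W := (ProjX.isPullback_pmap 1 g.hom).isoIsPullback _ _ h
    exact Function.Surjective.irreducibleSpace (Scheme.homeoOfIso e).continuous (Scheme.homeoOfIso e).surjective
  · intro Ω _ _ t W fst snd h
    obtain ⟨g, rfl⟩ := Spec.map_surjective t
    letI : Algebra K Ω := g.hom.toAlgebra
    letI : (ProjSpace 1 K).Over (Spec (CommRingCat.of K)) := ⟨ProjSpace.toSpec 1 K⟩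
    letI : W.Over (Spec (CommRingCat.of Ω)) := ⟨snd⟩
    haveI : IsProper ((ProjSpace 1 K) ↘ Spec (CommRingCat.of K)) := PnCoh.Chow.isProper_toSpec 1 K
    have hpb : IsPullback fst (W ↘ Spec (CommRingCat.of Ω)) ((ProjSpace 1 K) ↘ Spec (CommRingCat.of K))
        (Spec.map (CommRingCat.ofHom (algebraMap K Ω))) := h
    refine ⟨CurveBC.topologicalKrullDim_eq K Ω fst hpb (by simpa using S10829.result K 1), ?_⟩
    haveI := quasiSeparatedSpace_of_quasiSeparated ((ProjSpace 1 K) ↘ Spec (CommRingCat.of K))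
    haveI := QuasiCompact.compactSpace_of_compactSpace ((ProjSpace 1 K) ↘ Spec (CommRingCat.of K))
    exact (CurveBC.genus_eq K Ω fst hpb).trans (S7810.projLine_facts K).2

end Std

section Iso

variable {L : Type u} [Field L] {C : Scheme.{u}} (f : C ⟶ Spec (CommRingCat.of L))

attribute [local instance] Curv2.resAlgebra

/-- A curve of genus zero with a rational point is the projective line. -/
theorem exists_iso_of_section (h : ModFun.IsCurveOfGenus 0 f) (s : Spec (CommRingCat.of L) ⟶ C)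
    (hs : s ≫ f = 𝟙 _) :
    ∃ e : C ≅ ProjSpace 1 L, e.hom ≫ ProjSpace.toSpec 1 L = f := by
  obtain ⟨hsm, hpr, hirr, hfib⟩ := h
  letI : C.Over (Spec (CommRingCat.of L)) := ⟨f⟩
  haveI : Smooth (C ↘ Spec (CommRingCat.of L)) := hsm
  haveI : IsProper (C ↘ Spec (CommRingCat.of L)) := hpr
  haveI : GeometricallyIrreducible (C ↘ Spec (CommRingCat.of L)) := hirr
  haveI : Subsingleton (Spec (CommRingCat.of L)) := inferInstanceAs (Subsingleton (PrimeSpectrum L))
  haveI : IrreducibleSpace C := GeometricallyIrreducible.irreducibleSpace_of_subsingleton (C ↘ Spec (CommRingCat.of L))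
  haveI := quasiSeparatedSpace_of_quasiSeparated (C ↘ Spec (CommRingCat.of L))
  haveI := QuasiCompact.compactSpace_of_compactSpace (C ↘ Spec (CommRingCat.of L))
  haveI : IsIntegral C := CurveCohLib.isIntegral_of_smooth_connected (C ↘ Spec (CommRingCat.of L))
  let Ω := AlgebraicClosure L
  obtain ⟨hd, hg⟩ := hfib Ω (Spec.map (CommRingCat.ofHom (algebraMap L Ω))) (Curv2.bc L C Ω) (Curv2.bcFst L C Ω)
    (Curv2.bcSnd L C Ω) (IsPullback.of_hasPullback _ _)
  letI : (Curv2.bc L C Ω).Over (Spec (CommRingCat.of Ω)) := ⟨Curv2.bcSnd L C Ω⟩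
  have hpb : IsPullback (Curv2.bcFst L C Ω) ((Curv2.bc L C Ω) ↘ Spec (CommRingCat.of Ω)) (C ↘ Spec (CommRingCat.of L))
      (Spec.map (CommRingCat.ofHom (algebraMap L Ω))) := IsPullback.of_hasPullback _ _
  haveI := quasiSeparatedSpace_of_quasiSeparated (C ↘ Spec (CommRingCat.of L))
  haveI := QuasiCompact.compactSpace_of_compactSpace (C ↘ Spec (CommRingCat.of L))
  haveI : Subsingleton (Spec (CommRingCat.of Ω)) := inferInstanceAs (Subsingleton (PrimeSpectrum Ω))
  haveI : Nonempty (Spec (CommRingCat.of Ω)) := inferInstanceAs (Nonempty (PrimeSpectrum Ω))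
  haveI := CurveBC.isProper L Ω _ hpb
  have hdim : topologicalKrullDim C = 1 := (FibDim.topologicalKrullDim_baseChange hpb).symm.trans hd
  have hgen : Curv2.genus L C = 0 := (CurveBC.genus_eq L Ω _ hpb).symm.trans hg
  haveI := CurveCohLib.isNoetherian_of_proper (k := L) (X := C)
  have h1 : Subsingleton (Coh.HH C (Coh.structureModule C) 1) := by
    haveI := CurveCohLib.finite_HH (k := L) (QCoh.isCoh_structureModule' (X := C)) 1
    exact Module.finrank_zero_iff.1 hgen
  obtain ⟨p⟩ : Nonempty (Spec (CommRingCat.of L)) := inferInstanceAs (Nonempty (PrimeSpectrum L))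
  have hx : IsClosed ({s p} : Set C) := by
    haveI : IsClosedImmersion (s ≫ f) := by rw [hs]; infer_instance
    haveI : IsClosedImmersion s := IsClosedImmersion.of_comp s f
    have : Set.range s = {s p} := Set.eq_singleton_iff_unique_mem.2 ⟨⟨p, rfl⟩, by
      rintro _ ⟨q, rfl⟩; rw [Subsingleton.elim q p]⟩
    exact this ▸ s.isClosedEmbedding.isClosed_range
  refine CurveEmbed.exists_iso_line_of_point L hdim h1 hx ?_ ?_
  · rw [(Scheme.Hom.smoothLocus_eq_top_iff (f := C ↘ Spec (CommRingCat.of L))).2 inferInstance]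
    trivial
  · obtain rfl : p = IsLocalRing.closedPoint L := Subsingleton.elim _ _
    exact S7806.resMap_surjective (W := Over.mk f) (Over.homMk s hs) rfl

end Iso

end Groth.Agent.EssP1
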